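import Groth.Agent.Etbc.H204.HensDimOne
import Mathlib.RingTheory.Ideal.MinimalPrime.Basic
import Mathlib.RingTheory.KrullDimension.Basic
import Mathlib.RingTheory.KrullDimension.Zero
import Mathlib.Algebra.Order.Ring.Defs

/-!
# The glue for the cohomological dimension of one-dimensional henselian local rings

`C F d` is an abstract predicate ("`cd_ℓ(F) ≤ d`") on fields.
-/

set_option autoImplicit false

universe u

open IsLocalRing

namespace Groth.Agent.Etbc.H204.Glue3486

theorem main (ℓ : ℕ) (C : ∀ (F : Type u) [Field F], ℕ → Prop)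
    (halg : ∀ (K L : Type u) [Field K] [Field L] [Algebra K L] [Algebra.IsAlgebraic K L] (d : ℕ),
      C K d → C L d)
    (hdvr : ∀ (R K : Type u) [CommRing R] [IsDomain R] [IsDiscreteValuationRing R]
      [HenselianLocalRing R] [Field K] [Algebra R K] [IsFractionRing R K],
      (ℓ : ResidueField R) ≠ 0 →
      (∀ d : ℕ, C (ResidueField R) d ↔ C K (d + 1)) ∧ ¬ C K 0)
    (hserre : ∀ (k k' : Type u) [Field k] [Field k'] [Algebra k k'] [FiniteDimensional k k'],
      (ℓ : k) ≠ 0 → ∀ d : ℕ, C k' d →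
        (ℓ ≠ 2 ∨ ¬ ∃ _ : LinearOrder k, IsStrictOrderedRing k) → C k d)
    (A : Type u) [CommRing A] [IsNoetherianRing A] [HenselianLocalRing A]
    (hdim : ringKrullDim A = 1) (hℓA : IsUnit (ℓ : A))
    (P : Ideal A) (hP : P ∈ minimalPrimes A) (K : Type u) [Field K] [Algebra (A ⧸ P) K]
    [IsFractionRing (A ⧸ P) K] :
    (∀ d : ℕ, C (ResidueField A) d → C K (d + 1)) ∧
    ((ℓ ≠ 2 ∨ ¬ ∃ _ : LinearOrder (ResidueField A), IsStrictOrderedRing (ResidueField A)) →
      (∀ d : ℕ, C (ResidueField A) d ↔ C K (d + 1)) ∧ ¬ C K 0) := by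
  have hprime : P.IsPrime := hP.1.1
  have hdom : IsDomain (A ⧸ P) := Ideal.Quotient.isDomain P
  have hint : Algebra.IsIntegral A (A ⧸ P) :=
    Algebra.isIntegral_of_surjective Ideal.Quotient.mk_surjective
  obtain ⟨hH, hloc, -⟩ := Groth.Agent.S1964.result A (A ⧸ P)
  have hdimD : Ring.KrullDimLE 1 (A ⧸ P) := by
    rw [Ring.krullDimLE_iff]
    have h1 := ringKrullDim_le_of_surjective (Ideal.Quotient.mk P) Ideal.Quotient.mk_surjective
    rw [hdim] at h1
    exact_mod_cast h1
  have hmax : maximalIdeal (A ⧸ P) ≠ ⊥ := by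
    intro h
    have hf : IsField (A ⧸ P) := IsLocalRing.isField_iff_maximalIdeal_eq.2 h
    have hPm : P.IsMaximal := Ideal.Quotient.maximal_of_isField P hf
    have hPe : P = maximalIdeal A := IsLocalRing.eq_maximalIdeal hPm
    have hz : Ring.KrullDimLE 0 A := by
      refine Ring.KrullDimLE.mk₀ fun I hI => ?_
      have hle : I ≤ P := hPe ▸ IsLocalRing.le_maximalIdeal hI.ne_top
      have hge : P ≤ I := hP.2 ⟨hI, bot_le⟩ hle
      rw [le_antisymm hle hge]
      exact hPm
    have h2 : ringKrullDim A ≤ 0 := by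
      have := (Ring.krullDimLE_iff (n := 0) (R := A)).1 hz
      exact_mod_cast this
    rw [hdim] at h2
    exact absurd h2 (by decide)
  obtain ⟨hV1, hV2, hV3, hV4, hV5⟩ := HensDimOne.exists_dvr (A ⧸ P) K hmax
  -- the residue field of `V` is finite over that of `A`
  let k := ResidueField A
  let kV := ResidueField (integralClosure (A ⧸ P) K)
  let φ : k →+* kV := (ResidueField.map (algebraMap (A ⧸ P) (integralClosure (A ⧸ P) K))).comp
    (ResidueField.map (algebraMap A (A ⧸ P)))
  let _ : Algebra k kV := φ.toAlgebra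
  have hfin : FiniteDimensional k kV := by
    have h1 : (algebraMap (ResidueField (A ⧸ P))
        (ResidueField (integralClosure (A ⧸ P) K))).Finite := RingHom.finite_algebraMap.2 hV5
    have h2 : (ResidueField.map (algebraMap A (A ⧸ P))).Finite := by
      refine RingHom.Finite.of_surjective _ ?_
      intro x
      obtain ⟨y, rfl⟩ := IsLocalRing.residue_surjective x
      obtain ⟨z, rfl⟩ := Ideal.Quotient.mk_surjective y
      exact ⟨residue A z, rfl⟩
    exact h1.comp h2
  have hℓk : (ℓ : k) ≠ 0 := by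
    have := (hℓA.map (residue A)).ne_zero
    rwa [map_natCast] at this
  have hℓV : (ℓ : kV) ≠ 0 := by
    have := (map_ne_zero φ).2 hℓk
    rwa [map_natCast] at this
  obtain ⟨h1, h2⟩ := hdvr (integralClosure (A ⧸ P) K) K hℓV
  have hup : ∀ d : ℕ, C k d → C K (d + 1) := fun d hd => (h1 d).1 (halg k kV d hd)
  refine ⟨hup, fun hord => ⟨fun d => ⟨hup d, fun hd => ?_⟩, h2⟩⟩
  exact hserre k kV hℓk d ((h1 d).2 hd) hord

end Groth.Agent.Etbc.H204.Glue3486
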