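import Groth.Agent.Ega2.KrullAkizuki
import Groth.Agent.S1964
import Mathlib.RingTheory.DiscreteValuationRing.TFAE
import Mathlib.RingTheory.KrullDimension.Field
import Mathlib.RingTheory.DedekindDomain.IntegralClosure
import Mathlib.RingTheory.LocalRing.ResidueField.Basic

/-!
# Normalization of a one-dimensional henselian local domain

The integral closure of a Noetherian henselian local domain `D` of dimension one in its fraction
field is a henselian discrete valuation ring whose residue field is finite over that of `D`.
-/

set_option autoImplicit false

universe u

open IsLocalRing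

namespace Groth.Agent.Etbc.H204.HensDimOne

open Groth.Agent.Ega2

variable (D K : Type u) [CommRing D] [IsDomain D] [IsNoetherianRing D] [HenselianLocalRing D]
  [Ring.KrullDimLE 1 D] [Field K] [Algebra D K] [IsFractionRing D K]

theorem exists_dvr (hD : maximalIdeal D ≠ ⊥) :
    ∃ (_ : IsDiscreteValuationRing (integralClosure D K))
      (_ : HenselianLocalRing (integralClosure D K))
      (_ : IsFractionRing (integralClosure D K) K)
      (_ : IsLocalHom (algebraMap D (integralClosure D K))),
      FiniteDimensional (ResidueField D) (ResidueField (integralClosure D K)) := by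
  let V := integralClosure D K
  have hfr : IsFractionRing (integralClosure D K) K :=
    IsIntegralClosure.isFractionRing_of_finite_extension D K K _
  obtain ⟨hH, hloc, -⟩ := Groth.Agent.S1964.result D (integralClosure D K)
  have hinj : Function.Injective (algebraMap D (integralClosure D K)) := by
    intro a b hab
    apply IsFractionRing.injective D K
    have := congrArg (algebraMap (integralClosure D K) K) hab
    rwa [← IsScalarTower.algebraMap_apply, ← IsScalarTower.algebraMap_apply] at this
  have hN : IsNoetherianRing (integralClosure D K) :=
    KrullAkizuki.isNoetherianRing D K K (A := integralClosure D K) Subtype.val_injective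
  have hnf : ¬ IsField (integralClosure D K) := by
    intro h
    have h1 : IsField D :=
      isField_of_isIntegral_of_isField (R := D) (S := integralClosure D K) hinj h
    exact hD (IsLocalRing.isField_iff_maximalIdeal_eq.1 h1)
  have hic : IsIntegrallyClosed (integralClosure D K) :=
    integralClosure.isIntegrallyClosedOfFiniteExtension K
  have hdim : Ring.DimensionLEOne (integralClosure D K) := by
    have : Ring.DimensionLEOne D := ⟨fun {p} hp hpr =>
      Ring.krullDimLE_one_iff_of_noZeroDivisors.mp inferInstance p hp hpr⟩
    exact Ring.DimensionLEOne.integralClosure D K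
  have hded : IsDedekindDomain (integralClosure D K) := { }
  have hdvr : IsDiscreteValuationRing (integralClosure D K) :=
    ((IsDiscreteValuationRing.TFAE (integralClosure D K) hnf).out 0 2).mpr hded
  refine ⟨hdvr, hH, hfr, hloc, ?_⟩
  obtain ⟨c, hc, hc0⟩ := Submodule.exists_mem_ne_zero_of_ne_bot hD
  have h1 : IsFiniteLength D (V ⧸ Ideal.span {algebraMap D V c}) :=
    KrullAkizuki.isFiniteLength_quotient (K := K) (L := K) Subtype.val_injective c hc0
  have h2 : IsNoetherian D (V ⧸ Ideal.span {algebraMap D V c}) :=
    (isFiniteLength_iff_isNoetherian_isArtinian.1 h1).1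
  have hle : Ideal.span {algebraMap D V c} ≤ maximalIdeal V := by
    rw [Ideal.span_singleton_le_iff_mem]
    rw [mem_maximalIdeal, mem_nonunits_iff] at hc ⊢
    exact fun h => hc (isUnit_of_map_unit _ c h)
  let π : (V ⧸ Ideal.span {algebraMap D V c}) →ₐ[D] (V ⧸ maximalIdeal V) :=
    Ideal.Quotient.factorₐ D hle
  have hπ : Function.Surjective π := Ideal.Quotient.factor_surjective hle
  have h3 : Module.Finite D (ResidueField V) := Module.Finite.of_surjective π.toLinearMap hπ
  exact Module.Finite.of_restrictScalars_finite D (ResidueField D) (ResidueField V)

end Groth.Agent.Etbc.H204.HensDimOne
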